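import Cfsg.Agent.Lib.FischerLarge.EightQuot
import Cfsg.Agent.Lib.E8Cent.Auto

/-!
A group of order 1344 with a self-centralising normal elementary abelian subgroup of order 8 has quotient
PSL(3,2).
-/

set_option autoImplicit false
set_option linter.style.haveILetI false

namespace Cfsg.Lib.MTwelveLocal1344

open Subgroup
open scoped IsMulCommutative

universe u

theorem quot_psl {G : Type u} [Group G] [Finite G] (N : Subgroup G) [hN : N.Normal]
    (hcomm : IsMulCommutative N) (hsq : ∀ n ∈ N, n ^ 2 = 1) (h8 : Nat.card N = 8)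
    (hC : centralizer (N : Set G) ≤ N) (hcard : Nat.card G = 1344) :
    Nonempty (G ⧸ N ≃* Matrix.ProjectiveSpecialLinearGroup (Fin 3) (ZMod 2)) := by
  classical
  haveI : Fact (Nat.Prime 2) := ⟨Nat.prime_two⟩
  letI : CommGroup N := { (inferInstance : Group N) with mul_comm := fun a b => hcomm.1.comm a b }
  letI : Module (ZMod 2) (Additive N) := AddCommGroup.zmodModule (n := 2) fun x => by
    obtain ⟨⟨y, hy⟩, rfl⟩ := Additive.ofMul.surjective x
    rw [← ofMul_pow]
    have : (⟨y, hy⟩ : N) ^ 2 = 1 := Subtype.ext (hsq y hy)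
    rw [this, ofMul_one]
  haveI : Finite (Additive N) := inferInstanceAs (Finite N)
  have hd : Module.finrank (ZMod 2) (Additive N) = 3 := by
    have h := Module.natCard_eq_pow_finrank (K := ZMod 2) (V := Additive N)
    rw [Nat.card_zmod, show Nat.card (Additive N) = 8 from h8] at h
    exact (Nat.pow_right_injective (le_refl 2) (show (2 : ℕ) ^ 3 = 2 ^ _ from h)).symm
  let toLin : MulAut N →* (Additive N ≃ₗ[ZMod 2] Additive N) :=
    { toFun := fun g => (MulEquiv.toAdditive g).toLinearEquiv
        fun c x => ZMod.map_smul (MulEquiv.toAdditive g).toAddMonoidHom c x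
      map_one' := by ext x; rfl
      map_mul' := fun a b => by ext x; rfl }
  let b := (Module.finBasis (ZMod 2) (Additive N)).reindex (finCongr hd)
  let toGL : (Additive N ≃ₗ[ZMod 2] Additive N) ≃* GL (Fin 3) (ZMod 2) :=
    (LinearMap.GeneralLinearGroup.generalLinearEquiv (ZMod 2) (Additive N)).symm.trans
      (Units.mapEquiv (LinearMap.toMatrixAlgEquiv b).toMulEquiv)
  have hu : ∀ u : (ZMod 2)ˣ, u = 1 := fun u => Units.ext (by
    have h := u.ne_zero
    revert h
    generalize (u : ZMod 2) = a
    revert a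
    exact Fin.forall_fin_two.2 ⟨fun h => absurd rfl h, fun _ => rfl⟩)
  let ι : Matrix.SpecialLinearGroup (Fin 3) (ZMod 2) →* GL (Fin 3) (ZMod 2) := Matrix.SpecialLinearGroup.toGL
  have hι : Function.Bijective ι := by
    refine ⟨fun A B h => Subtype.ext (congrArg Units.val h), fun g => ?_⟩
    exact ⟨⟨(g : Matrix (Fin 3) (Fin 3) (ZMod 2)), congrArg Units.val (hu (Matrix.GeneralLinearGroup.det g))⟩,
      Units.ext rfl⟩
  let f : G →* GL (Fin 3) (ZMod 2) := toGL.toMonoidHom.comp (toLin.comp MulAut.conjNormal)
  have hker : f.ker = N := by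
    ext g
    constructor
    · intro hg
      refine hC (mem_centralizer_iff.2 fun n hn => ?_)
      have h1 : toLin (MulAut.conjNormal g) = 1 := toGL.injective (by rw [map_one]; exact hg)
      have h2 := congrArg Subtype.val
        (congrArg Additive.toMul (LinearEquiv.congr_fun h1 (Additive.ofMul (⟨n, hn⟩ : N))))
      have h3 : g * n * g⁻¹ = n := h2
      exact (mul_inv_eq_iff_eq_mul.1 h3).symm
    · intro hg
      have h1 : (MulAut.conjNormal g : MulAut N) = 1 := MulEquiv.ext fun n => Subtype.ext (by
        show g * n * g⁻¹ = n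
        have : (⟨g, hg⟩ : N) * n = n * ⟨g, hg⟩ := mul_comm _ _
        have e : g * (n : G) = (n : G) * g := congrArg Subtype.val this
        rw [e, mul_inv_cancel_right])
      show toGL (toLin (MulAut.conjNormal g)) = 1
      rw [h1, map_one, map_one]
  have hSL : Nat.card (GL (Fin 3) (ZMod 2)) = 168 := by
    rw [← Nat.card_eq_of_bijective ι hι]
    exact Cfsg.Lib.FischerLarge.sl32_facts.2
  have hsurj : Function.Surjective f := by
    rw [← MonoidHom.range_eq_top]
    refine eq_top_of_card_eq _ ?_
    rw [← index_ker, hker, hSL]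
    have h := N.card_mul_index
    rw [h8, hcard] at h
    omega
  haveI := Cfsg.Lib.Linear.PSL_simple (F := ZMod 2) 3 (by norm_num) (fun h => absurd h (by norm_num))
  have hc : center (Matrix.SpecialLinearGroup (Fin 3) (ZMod 2)) = ⊥ := eq_bot_of_card_eq _ (by
    rw [Cfsg.Lib.Linear.card_center_SL]; simp [ZMod.card])
  exact ⟨((QuotientGroup.quotientMulEquivOfEq hker.symm).trans
    (QuotientGroup.quotientKerEquivOfSurjective f hsurj)).trans
      ((MulEquiv.ofBijective ι hι).symm.trans
        ((QuotientGroup.quotientMulEquivOfEq hc).trans QuotientGroup.quotientBot).symm)⟩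

end Cfsg.Lib.MTwelveLocal1344
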