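import Cfsg.Agent.Lib.MTwelveLocal1344.Quot
import Cfsg.Agent.Lib.MTwelveRecog.Recog

/-!
The groups whose centraliser of an involution is the table group, with the involution not weakly closed in
the normal extraspecial subgroup: M12, or an extension of an elementary abelian group of order 8 by PSL(3,2).
-/

set_option autoImplicit false
set_option linter.style.haveILetI false
set_option linter.style.longLine false
set_option maxRecDepth 100000

namespace Cfsg.Lib.MTwelveLocal1344

open Subgroup Cfsg Cfsg.Lib.MTwelveRecog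

universe u

/-- The indices of the seven conjugates of `t` and of the identity. -/
def inE (i : Fin 192) : Bool := i == 0 || i == cT || cCls i == 12

/-- The indices of the identity and of the classes of `t`, `3` and `61`. -/
def gen (i : Fin 192) : Bool := inE i || cCls i == 9

/-- The products of two of these. -/
def two (i : Fin 192) : Bool := Nat.testBit 5100046290876697540223795674886350474335026063300124888015 i

theorem inE_facts : inE 0 = true ∧ (∀ i j, inE i = true → inE j = true → inE (cMul i j) = true ∧ cMul i j = cMul j i) ∧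
    (∀ i, inE i = true → cMul i i = 0) ∧ ((List.finRange 192).filter inE).length = 8 ∧
    (∀ i, (∀ j, inE j = true → cMul i j = cMul j i) → inE i = true) ∧ inE cT = true ∧ cCls (cMul cT 3) = 12 := by
  refine ⟨?_, ?_, ?_, ?_, ?_, ?_, ?_⟩ <;> decide +kernel

theorem gen_facts : (∀ i, ∃ a, gen a = true ∧ two (cMul i (cInv a)) = true) ∧
    (∀ i, two i = true → ∃ a, gen a = true ∧ ∃ b, gen b = true ∧ cMul a b = i) := by
  refine ⟨?_, ?_⟩ <;> decide +kernel

theorem odd_facts : (∀ i, cPow i 3 = 0 → i ≠ 0 → ∃ j, inMax j = true ∧ cComm i j ≠ 0) ∧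
    (∀ i j, inMax j = true → inMax (cComm i j) = true) ∧ (∃ h, cComm 55 h = cT) := by
  refine ⟨?_, ?_, ?_⟩ <;> decide +kernel

variable {G : Type u} [Group G] [Finite G] (S : Setup G)

theorem fpow (j : Fin 192) : ∀ n, S.f (cPow j n) = S.f j ^ n := by
  intro n
  induction n with
  | zero => simp [cPow, S.fone]
  | succ n ih => rw [cPow, S.fmul, ih, pow_succ']

/-- A normal subgroup of odd order meets the centraliser of `t` trivially. -/
theorem inf_odd {N : Subgroup G} (hN : N.Normal) (hodd : Odd (Nat.card N)) {x : G} (hx : x ∈ N)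
    (hxt : x * S.t = S.t * x) : x = 1 := by
  obtain ⟨i, rfl⟩ := (S.mem_iff x).1 hxt
  have h3 : S.f (cPow i 3) = S.f 0 := by
    rw [fpow, S.fone, ← orderOf_dvd_iff_pow_eq_one]
    have hd : orderOf (S.f i) ∣ 2 ^ 6 * 3 := by
      have h := orderOf_dvd_natCard (centralizer ({S.t} : Set G)) (mem_centralizer_singleton_iff.2 (S.comm_t i))
      rwa [S.card_centralizer_t] at h
    have ho : Odd (orderOf (S.f i)) := hodd.of_dvd_nat (orderOf_dvd_natCard N hx)
    exact (((Nat.coprime_two_left.2 ho).pow_left 6).symm).dvd_of_dvd_mul_left hd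
  by_contra hne
  have h0 : i ≠ 0 := fun e => hne (by rw [e, S.fone])
  obtain ⟨j, hj, hc⟩ := odd_facts.1 i (S.inj h3) h0
  refine hc (S.inj ?_)
  have hcN : S.f (cComm i j) ∈ N := by
    rw [S.fcomm, show S.f i * S.f j * (S.f i)⁻¹ * (S.f j)⁻¹ = S.f i * (S.f j * (S.f i)⁻¹ * (S.f j)⁻¹) by group]
    exact mul_mem hx (hN.conj_mem _ (inv_mem hx) _)
  have h4 : S.f (cComm i j) ^ 2 ^ 2 = 1 := by
    rw [← fpow, show (2 : ℕ) ^ 2 = 4 from rfl, transfer_facts.2.1 _ (odd_facts.2.1 i j hj), S.fone]
  rw [S.fone, ← orderOf_eq_one_iff]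
  exact Nat.eq_one_of_dvd_coprimes ((Nat.coprime_two_left.2 (hodd.of_dvd_nat (orderOf_dvd_natCard N hcN))).pow_left 2)
    (orderOf_dvd_of_pow_eq_one h4) dvd_rfl

/-- A fixed-point-free involution inverts. -/
theorem inverts {N : Subgroup G} (hN : N.Normal) {u : G} (hu : u * u = 1)
    (hfix : ∀ x ∈ N, x * u = u * x → x = 1) : ∀ x ∈ N, u * x * u = x⁻¹ := by
  intro x hx
  have hui : u⁻¹ = u := inv_eq_of_mul_eq_one_right hu
  let F : N → N := fun n => ⟨(n : G)⁻¹ * (u * (n : G) * u), mul_mem (inv_mem n.2) (by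
    simpa [hui] using hN.conj_mem _ n.2 u)⟩
  have hinj : Function.Injective F := fun a b h => by
    have h' : (a : G)⁻¹ * (u * a * u) = (b : G)⁻¹ * (u * b * u) := congrArg Subtype.val h
    refine Subtype.ext (mul_inv_eq_one.1 (hfix _ (mul_mem b.2 (inv_mem a.2)) ?_)).symm
    calc (b : G) * (a : G)⁻¹ * u = (b : G) * ((a : G)⁻¹ * (u * a * u)) * u⁻¹ * (a : G)⁻¹ * u⁻¹ * u := by group
      _ = u * ((b : G) * (a : G)⁻¹) * (u⁻¹ * u) := by rw [h']; group
      _ = u * ((b : G) * (a : G)⁻¹) := by group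
  obtain ⟨n, hn⟩ := (Finite.injective_iff_surjective.1 hinj) ⟨x, hx⟩
  have e : (n : G)⁻¹ * (u * n * u) = x := congrArg Subtype.val hn
  rw [← e]
  calc u * ((n : G)⁻¹ * (u * n * u)) * u = u * (n : G)⁻¹ * u * n * (u * u) := by group
    _ = ((n : G)⁻¹ * (u * n * u))⁻¹ := by rw [hu, mul_inv_rev, mul_inv_rev, mul_inv_rev, hui]; group

/-- The conclusion. -/
theorem main (hnwc : ∃ (g : G) (i : Fin 192), (cCls i = 4 ∨ cCls i = 12) ∧ g * S.t * g⁻¹ = S.f i) :
    (∃ (N : Subgroup G) (_ : N.Normal), IsMulCommutative N ∧ (∀ n ∈ N, n ^ 2 = 1) ∧ Nat.card N = 8 ∧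
      Nonempty (G ⧸ N ≃* Matrix.ProjectiveSpecialLinearGroup (Fin 3) (ZMod 2))) ∨ Cfsg.Spor.IsoM12 G := by
  classical
  obtain ⟨g, i, hi, hgi⟩ := hnwc
  have hti : IsConj S.t (S.f i) := isConj_iff.2 ⟨g, hgi⟩
  have hA : IsConj S.t (S.f 3) := by
    rcases hi with h | h
    · exact absurd (hti.trans (S.isConj_cls4 h).symm) S.not_isConj_b
    · exact hti.trans (S.isConj_cls12 h).symm
  have hF := S.fused_of_conj hA
  have hE : ∀ i, inE i = true → i ≠ 0 → IsConj S.t (S.f i) := fun i h h0 => by
    simp only [inE, Bool.or_eq_true, beq_iff_eq] at h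
    rcases h with (h | h) | h
    · exact absurd h h0
    · rw [h, S.f_t]
    · exact hA.trans (S.isConj_cls12 h)
  rcases S.order_cases hF with ⟨hcard, hno⟩ | ⟨hcard, h61, -⟩
  · left
    let N : Subgroup G :=
      { carrier := {x | ∃ i, inE i = true ∧ S.f i = x}
        one_mem' := ⟨0, inE_facts.1, S.fone⟩
        mul_mem' := by
          rintro _ _ ⟨i, hi, rfl⟩ ⟨j, hj, rfl⟩
          exact ⟨_, (inE_facts.2.1 i j hi hj).1, S.fmul i j⟩
        inv_mem' := by
          rintro _ ⟨i, hi, rfl⟩
          exact ⟨i, hi, eq_inv_of_mul_eq_one_left (by rw [← S.fmul, inE_facts.2.2.1 i hi, S.fone])⟩ }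
    have hNcard : Nat.card N = 8 := by
      rw [← inE_facts.2.2.2.1, S.card_of_pred inE N fun g => Iff.rfl]
    -- the conjugates of `t` are the seven involutions of `N`
    let C : Type u := {y : G // IsConj S.t y}
    have hC7 : Nat.card C = 7 := by
      have h := Cfsg.Lib.Invol.card_conj_mul_centralizer S.t
      rw [S.card_centralizer_t, hcard] at h
      show Nat.card {y : G // IsConj S.t y} = 7
      omega
    let j : {x : N // x ≠ 1} → C := fun x => ⟨x.1.1, by
      obtain ⟨i, hi, he⟩ := x.1.2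
      rw [← he]
      exact hE i hi fun h0 => x.2 (Subtype.ext (by rw [← he, h0, S.fone]; rfl))⟩
    have hj : Function.Bijective j := by
      haveI : Fintype N := Fintype.ofFinite N
      letI := Fintype.ofFinite C
      refine (Fintype.bijective_iff_injective_and_card j).2
        ⟨fun a b h => Subtype.ext (Subtype.ext (congrArg (fun c : C => c.1) h)), ?_⟩
      rw [Fintype.card_subtype_compl, Fintype.card_subtype_eq, ← Nat.card_eq_fintype_card, hNcard,
        ← Nat.card_eq_fintype_card, hC7]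
    have hNn : N.Normal := ⟨fun x hx h => by
      by_cases hx1 : x = 1
      · rw [hx1, mul_one, mul_inv_cancel]; exact one_mem N
      obtain ⟨y, hy⟩ := hj.2 ⟨h * x * h⁻¹, (j ⟨⟨x, hx⟩, fun e => hx1 (congrArg Subtype.val e)⟩).2.trans
        (isConj_iff.2 ⟨h, rfl⟩)⟩
      rw [← show y.1.1 = h * x * h⁻¹ from congrArg Subtype.val hy]
      exact y.1.2⟩
    have hcomm : IsMulCommutative N := ⟨⟨fun a b => Subtype.ext (by
      obtain ⟨i, hi, hie⟩ := a.2
      obtain ⟨k, hk, hke⟩ := b.2
      show (a : G) * b = b * a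
      rw [← hie, ← hke, ← S.fmul, ← S.fmul, (inE_facts.2.1 i k hi hk).2])⟩⟩
    have hsq : ∀ n ∈ N, n ^ 2 = 1 := by
      rintro _ ⟨i, hi, rfl⟩
      rw [sq, ← S.fmul, inE_facts.2.2.1 i hi, S.fone]
    refine ⟨N, hNn, hcomm, hsq, hNcard, ?_⟩
    haveI := hNn
    refine quot_psl N hcomm hsq hNcard (fun x hx => ?_) hcard
    have hx' := mem_centralizer_iff.1 hx
    obtain ⟨k, rfl⟩ := (S.mem_iff x).1 (hx' S.t ⟨cT, inE_facts.2.2.2.2.2.1, S.f_t⟩).symm
    exact ⟨k, inE_facts.2.2.2.2.1 k fun l hl => S.inj (by rw [S.fmul, S.fmul, hx' (S.f l) ⟨l, hl, rfl⟩]), rfl⟩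
  · right
    have hna : ¬ IsMulCommutative G := fun h => by
      have e : centralizer ({S.t} : Set G) = ⊤ := eq_top_iff.2 fun x _ =>
        mem_centralizer_singleton_iff.2 (h.1.comm _ _)
      have := S.card_centralizer_t
      rw [e, card_top, hcard] at this
      omega
    have hL : ∀ N : Subgroup G, N.Normal → S.t ∈ N → ∀ i, S.f i ∈ N := by
      intro N hN ht
      have hconj : ∀ x, IsConj S.t x → x ∈ N := fun x hx => by
        obtain ⟨h, rfl⟩ := isConj_iff.1 hx
        exact hN.conj_mem _ ht h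
      have hgen : ∀ a, gen a = true → S.f a ∈ N := fun a ha => by
        rw [gen, Bool.or_eq_true, beq_iff_eq] at ha
        rcases ha with h | h
        · by_cases h0 : a = 0
          · rw [h0, S.fone]; exact one_mem N
          · exact hconj _ (hE a h h0)
        · exact hconj _ (h61.trans (S.isConj_cls9 h))
      intro i
      obtain ⟨a, ha, h2⟩ := gen_facts.1 i
      obtain ⟨b, hb, c, hc, he⟩ := gen_facts.2 _ h2
      rw [show S.f i = S.f (cMul i (cInv a)) * S.f a by rw [S.fmul, S.finv]; group, ← he, S.fmul]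
      exact mul_mem (mul_mem (hgen b hb) (hgen c hc)) (hgen a ha)
    haveI : Nontrivial G := ⟨⟨S.t, 1, S.t_ne_one⟩⟩
    haveI hsimp : IsSimpleGroup G := by
      refine ⟨fun N hN => or_iff_not_imp_left.2 fun hne => ?_⟩
      have ht : S.t ∈ N := by
        rcases Nat.even_or_odd (Nat.card N) with he | ho
        · haveI : Fact (Nat.Prime 2) := ⟨Nat.prime_two⟩
          obtain ⟨x, hx⟩ := exists_prime_orderOf_dvd_card' (G := N) 2 (even_iff_two_dvd.1 he)
          rw [← orderOf_coe] at hx
          rcases S.classes hF (φ := true) ⟨fun _ => h61, fun _ => rfl⟩ hx with h | h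
          · obtain ⟨h', hh⟩ := isConj_iff.1 h.symm
            exact hh ▸ hN.conj_mem _ x.2 h'
          · obtain ⟨h', hh⟩ := isConj_iff.1 h.symm
            have hb : S.f 55 ∈ N := by
              show S.b ∈ N
              exact hh ▸ hN.conj_mem _ x.2 h'
            obtain ⟨k, hk⟩ := odd_facts.2.2
            rw [← S.f_t, ← hk, S.fcomm,
              show S.f 55 * S.f k * (S.f 55)⁻¹ * (S.f k)⁻¹ = S.f 55 * (S.f k * (S.f 55)⁻¹ * (S.f k)⁻¹) by group]
            exact mul_mem hb (hN.conj_mem _ (inv_mem hb) _)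
        · exfalso
          have hfix : ∀ u, IsConj S.t u → ∀ x ∈ N, x * u = u * x → x = 1 := by
            intro u hu x hx he
            obtain ⟨h, rfl⟩ := isConj_iff.1 hu
            have h1 := inf_odd S hN ho (x := h⁻¹ * x * h) (by simpa using hN.conj_mem _ hx h⁻¹) (by
              calc h⁻¹ * x * h * S.t = h⁻¹ * (x * (h * S.t * h⁻¹)) * h := by group
                _ = h⁻¹ * (h * S.t * h⁻¹ * x) * h := by rw [he]
                _ = S.t * (h⁻¹ * x * h) := by group)
            calc x = h * (h⁻¹ * x * h) * h⁻¹ := by group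
              _ = 1 := by rw [h1]; group
          have hsq : ∀ u, IsConj S.t u → u * u = 1 := fun u hu => by
            obtain ⟨h, rfl⟩ := isConj_iff.1 hu
            calc h * S.t * h⁻¹ * (h * S.t * h⁻¹) = h * (S.t * S.t) * h⁻¹ := by group
              _ = 1 := by rw [S.t_sq]; group
          have ha := hE (cMul cT 3) (by simp [inE, inE_facts.2.2.2.2.2.2]) (fun e => by
            have := inE_facts.2.2.2.2.2.2
            rw [e] at this
            exact absurd this (by decide +kernel))
          rw [S.fmul, S.f_t] at ha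
          refine hne ((eq_bot_iff_forall _).2 fun x hx => hfix _ ha x hx ?_)
          have e1 := inverts hN S.t_sq (hfix _ (IsConj.refl _)) x⁻¹ (inv_mem hx)
          have e2 := inverts hN (hsq _ hA) (hfix _ hA) x hx
          have h3 : (S.f 3)⁻¹ = S.f 3 := inv_eq_of_mul_eq_one_right (hsq _ hA)
          rw [inv_inv] at e1
          symm
          calc S.t * S.f 3 * x = S.t * (S.f 3 * x * S.f 3) * (S.f 3)⁻¹ := by group
            _ = S.t * x⁻¹ * S.t * (S.t⁻¹ * (S.f 3)⁻¹) := by rw [e2]; group
            _ = x * (S.t * S.f 3) := by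
              rw [e1, h3, inv_eq_of_mul_eq_one_right S.t_sq]
      obtain ⟨P, hP⟩ := S.exists_sylow
      have hall : centralizer ({S.t} : Set G) ≤ N := fun x hx => by
        obtain ⟨k, rfl⟩ := (S.mem_iff x).1 (mem_centralizer_singleton_iff.1 hx)
        exact hL N hN ht k
      have hPN : (P : Subgroup G) ≤ N := by
        rw [hP]
        rintro _ ⟨k, -, rfl⟩
        exact hL N hN ht k
      haveI := hN
      have htop := Sylow.normalizer_sup_eq_top' P hPN
      have hNP : normalizer ((P : Subgroup G) : Set G) ≤ N := fun x hx => by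
        refine hall (mem_centralizer_singleton_iff.2 ?_)
        obtain ⟨k, hk, hke⟩ : ∃ k, inSyl k = true ∧ S.f k = x * S.t * x⁻¹ := by
          have h := (mem_normalizer_iff.1 hx S.t).1 (by rw [hP]; exact ⟨cT, inSyl_facts.2.1, S.f_t⟩)
          rw [hP] at h
          exact h
        rcases inSyl_facts.2.2.2.2.2 k hk (fun l hl => S.inj (by
          rw [S.fmul, S.fmul, hke]
          have h := (mem_normalizer_iff.1 (inv_mem hx) (S.f l)).1 (by rw [hP]; exact ⟨l, hl, rfl⟩)
          rw [hP] at h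
          obtain ⟨l', -, hl'⟩ := h
          calc x * S.t * x⁻¹ * S.f l = x * (S.t * S.f l') * x⁻¹ := by rw [hl']; group
            _ = x * (S.f l' * S.t) * x⁻¹ := by rw [S.comm_t]
            _ = S.f l * (x * S.t * x⁻¹) := by rw [hl']; group)) with e | e
        · rw [e, S.fone] at hke
          exact absurd (conj_eq_one_iff.1 hke.symm) S.t_ne_one
        · rw [e, S.f_t] at hke
          exact mul_inv_eq_iff_eq_mul.1 hke.symm
      replace htop : normalizer ((P : Subgroup G) : Set G) ⊔ N = ⊤ := htop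
      rw [sup_eq_right.2 hNP] at htop
      exact htop
    exact isoM12_of_setup S hna

end Cfsg.Lib.MTwelveLocal1344
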